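import Groth.Agent.AlgSp.InfGlue
import Groth.Agent.AlgSp.CoprodCover

/-!
# Maps from spectra of product rings to affine schemes; finite disjoint unions
-/

universe u

open CategoryTheory CategoryTheory.Limits AlgebraicGeometry

set_option backward.isDefEq.respectTransparency.types false
set_option autoImplicit false

namespace Groth.Agent.AlgSpPi

open _root_.AlgSp

variable {ι : Type u} (A : ι → CommRingCat.{u})

/-- `Spec (A i) ⟶ Spec (Π i, A i)` -/
noncomputable abbrev prS (i : ι) : Spec (A i) ⟶ Spec (CommRingCat.of (∀ i, A i)) :=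
  Spec.map (CommRingCat.ofHom (Pi.evalRingHom (fun j => (A j : Type u)) i))

theorem exists_map_affine {Y : Scheme.{u}} [IsAffine Y] (g : ∀ i, Spec (A i) ⟶ Y) :
    ∃ G : Spec (CommRingCat.of (∀ i, A i)) ⟶ Y, ∀ i, prS A i ≫ G = g i := by
  let β : ∀ i, Γ(Y, ⊤) ⟶ A i := fun i => Spec.preimage (g i ≫ Y.isoSpec.hom)
  refine ⟨Spec.map (CommRingCat.ofHom (Pi.ringHom fun i => (β i).hom)) ≫ Y.isoSpec.inv, fun i => ?_⟩
  have h : CommRingCat.ofHom (Pi.ringHom fun i => (β i).hom) ≫
      CommRingCat.ofHom (Pi.evalRingHom (fun j => (A j : Type u)) i) = β i := rfl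
  rw [← Category.assoc, ← Spec.map_comp, h, Spec.map_preimage, Category.assoc, Iso.hom_inv_id, Category.comp_id]

theorem ringHom_ext_pi {B : CommRingCat.{u}} {f g : B ⟶ CommRingCat.of (∀ i, A i)}
    (h : ∀ i x, (f.hom x : ∀ i, A i) i = (g.hom x : ∀ i, A i) i) : f = g :=
  CommRingCat.hom_ext (RingHom.ext fun x => funext fun i => h i x)

theorem hom_ext_affine {Y : Scheme.{u}} [IsAffine Y] {f g : Spec (CommRingCat.of (∀ i, A i)) ⟶ Y}
    (h : ∀ i, prS A i ≫ f = prS A i ≫ g) : f = g := by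
  obtain ⟨f', hf'⟩ := Spec.map_surjective (f ≫ Y.isoSpec.hom)
  obtain ⟨g', hg'⟩ := Spec.map_surjective (g ≫ Y.isoSpec.hom)
  have hi : ∀ i, f' ≫ CommRingCat.ofHom (Pi.evalRingHom (fun j => (A j : Type u)) i) =
      g' ≫ CommRingCat.ofHom (Pi.evalRingHom (fun j => (A j : Type u)) i) := fun i => by
    apply Spec.map_injective
    rw [Spec.map_comp, Spec.map_comp, hf', hg']
    exact (Category.assoc _ _ _).symm.trans ((congrArg (fun k => k ≫ Y.isoSpec.hom) (h i)).trans (Category.assoc _ _ _))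
  have e : f' = g' := ringHom_ext_pi A fun i x =>
    congrArg (fun k : Γ(Y, ⊤) ⟶ A i => k.hom x) (hi i)
  rw [← cancel_mono Y.isoSpec.hom, ← hf', ← hg', e]

set_option backward.isDefEq.respectTransparency false

variable {S : Scheme.{u}}

/-- Finitely many maps from affine schemes to a sheaf factor through one affine scheme. -/
theorem exists_one_affine {F : Sp S} {κ : Type u} [Finite κ] (U : κ → Over S) (hU : ∀ k, IsAffine (U k).left)
    (c : ∀ k, (yon S).obj (U k) ⟶ F) :
    ∃ (W : Over S) (f : (yon S).obj W ⟶ F) (ε : ∀ k, U k ⟶ W), IsAffine W.left ∧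
      ∀ k, (yon S).map (ε k) ≫ f = c k := by
  let Y : κ → Scheme.{u} := fun i => (U i).left
  haveI : ∀ i, IsAffine (Y i) := hU
  let W : Over S := Over.mk (Sigma.desc fun i => (U i).hom : (∐ Y) ⟶ S)
  let ε : ∀ i, U i ⟶ W := fun i => Over.homMk (Sigma.ι Y i) (Sigma.ι_desc _ _)
  have hεo : ∀ i, IsOpenImmersion (ε i).left := fun i => (sigmaOpenCover Y).map_prop i
  have hεc : ∀ x : W.left, ∃ i, x ∈ Set.range (ε i).left := fun x => ⟨_, (sigmaOpenCover Y).covers x⟩
  have hεd : ∀ i j x, x ∈ Set.range (ε i).left → x ∈ Set.range (ε j).left → i = j := by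
    rintro i j x ⟨p, hp⟩ ⟨q, hq⟩
    by_contra hne
    obtain ⟨z, -, -⟩ := Scheme.Pullback.exists_preimage_pullback (f := Sigma.ι Y i) (g := Sigma.ι Y j) p q
      (hp.trans hq.symm)
    exact (isEmpty_pullback_sigmaι_of_ne Y hne).elim z
  obtain ⟨f, hf⟩ := Groth.Agent.AlgSp.InfGlue.exists_glue (T := W) (U := U) ε
    (fun i => have := hεo i; inferInstance) hεc c fun i j Z p q hpq => by
      rcases eq_or_ne i j with rfl | hne
      · have : Mono (ε i) := (Over.forget S).mono_of_mono_map (have := hεo i; inferInstanceAs (Mono (ε i).left))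
        rw [(cancel_mono (ε i)).1 hpq]
      · refine Groth.Agent.AlgSp.InfGlue.hom_ext_cover (ι := PEmpty.{u + 1}) (U := fun x => x.elim)
          (fun x => x.elim) (fun x => x.elim) (fun t => ?_) _ _ (fun x => x.elim)
        exact absurd (hεd i j ((ε i).left (p.left t)) ⟨_, rfl⟩
          ⟨q.left t, (congrArg (fun k : Z ⟶ W => k.left t) hpq).symm⟩) hne
  exact ⟨W, f, ε, inferInstanceAs (IsAffine (∐ Y)), hf⟩

end Groth.Agent.AlgSpPi
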