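import Groth.Agent.S10419
import Groth.Agent.AlgSpEN.Lift
import Groth.Agent.AlgSpB.Open

/-!
# A finite family of affine charts lifting all henselian points of a qcqs algebraic space
-/

universe u

open CategoryTheory CategoryTheory.Limits AlgebraicGeometry

set_option backward.isDefEq.respectTransparency false
set_option backward.isDefEq.respectTransparency.types false
set_option autoImplicit false

namespace Groth.Agent.AlgSpPi

open _root_.AlgSp
open Groth.Agent.AlgSpB Groth.Agent.AlgSpEN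

variable {S : Scheme.{u}}

/-- Every map from the spectrum of a field to a qcqs algebraic space lifts to one of finitely many
qc etale charts. -/
theorem exists_charts_fields [QuasiSeparatedSpace ↥S] (X : Space S) (hqc : IsQuasiCompactSp X.obj)
    (hqs : IsQuasiSeparatedSp X.obj) :
    ∃ (n : ℕ) (V : Fin n → Over S) (c : ∀ l, (yon S).obj (V l) ⟶ X.obj),
      (∀ l, CompactSpace ↥(V l).left ∧ RepWith @Etale (c l)) ∧
      ∀ (T : Over S) [IsReduced T.left] [Subsingleton ↥T.left] [Nonempty ↥T.left]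
        (x : (yon S).obj T ⟶ X.obj), ∃ (l : Fin n) (v : T ⟶ V l), (yon S).map v ≫ c l = x := by
  classical
  obtain ⟨n, Uo, j, k, T', i, hj, hk, h1, hend, hi, hV⟩ := Groth.Agent.S10419.result X hqc hqs
  have hV' := fun l : Fin n => hV (l.val + 1) (Nat.succ_pos _)
  choose V f hsep hcomp hfe hfs hiso using hV'
  have hje : ∀ p, RepWith @Etale (j p).hom := fun p =>
    ⟨(hj p).1, fun _ _ _ _ _ sq => by
      have : IsOpenImmersion _ := (hj p).2 _ _ _ sq
      change Etale _
      infer_instance⟩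
  refine ⟨n, V, fun l => f l ≫ (j (l.val + 1)).hom,
    fun l => ⟨hcomp l, (repWith_isMultiplicative (S := S) @Etale).comp_mem _ _ (hfe l) (hje _)⟩, ?_⟩
  intro T _ _ _ x
  obtain ⟨t⟩ := ‹Nonempty ↥T.left›
  let P : ℕ → Prop := fun p => Points.ofPt x t ∈ Set.range (Points.map (j (p + 1)).hom)
  have hP0 : P 0 := by
    haveI : IsIso (j 1) := h1
    refine ⟨Points.map (inv (j 1)).hom (Points.ofPt x t), ?_⟩
    rw [Points.map_ofPt, Points.map_ofPt, Category.assoc, ← ObjectProperty.FullSubcategory.comp_hom,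
      IsIso.inv_hom_id]
    exact congrArg (fun g => Points.ofPt g t) (Category.comp_id x)
  have hPn : ¬ P n := fun ⟨z, _⟩ => hend.elim z
  obtain ⟨p, hp, hpn, hpp⟩ : ∃ p, p < n ∧ ¬ P (p + 1) ∧ P p := by
    by_contra hcon
    push_neg at hcon
    have : ∀ p, p ≤ n → P p := by
      intro p
      induction p with
      | zero => exact fun _ => hP0
      | succ p ih =>
        intro hp
        by_contra hne
        exact hcon p (by omega) hne (ih (by omega))
    exact hPn (this n le_rfl)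
  obtain ⟨y, hy⟩ := exists_lift_yon_of_isOpenImmersion (hj (p + 1)) x (by
    rintro _ ⟨t', rfl⟩
    rw [Subsingleton.elim t' t]
    exact hpp)
  have hyk : Points.ofPt y t ∈ Set.range (Points.map (i (p + 1)).hom) := by
    rw [(hi (p + 1)).2.1]
    rintro ⟨z, hz⟩
    refine hpn ⟨z, ?_⟩
    rw [show (j (p + 1 + 1)).hom = (k (p + 1)).hom ≫ (j (p + 1)).hom by
      rw [← ObjectProperty.FullSubcategory.comp_hom, hk (p + 1)], Points.map_comp, hz, Points.map_ofPt, hy]
  obtain ⟨y', hy'⟩ := exists_lift_yon_of_isClosedImmersion (hi (p + 1)).1 y (by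
    rintro _ ⟨t', rfl⟩
    rw [Subsingleton.elim t' t]
    exact hyk)
  have sq := IsPullback.of_hasPullback (i (p + 1)).hom (f ⟨p, hp⟩)
  haveI := hiso ⟨p, hp⟩ _ _ _ sq
  obtain ⟨v, hv⟩ := (yon S).map_surjective (y' ≫ inv (pullback.fst (i (p + 1)).hom (f ⟨p, hp⟩)) ≫
    pullback.snd (i (p + 1)).hom (f ⟨p, hp⟩))
  refine ⟨⟨p, hp⟩, v, ?_⟩
  rw [hv, Category.assoc, Category.assoc, ← Category.assoc (pullback.snd _ _), ← sq.w, Category.assoc,
    IsIso.inv_hom_id_assoc, ← Category.assoc, hy', hy]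

/-- Every map from the spectrum of a henselian local ring lifts to one of finitely many affine charts. -/
theorem exists_charts_henselian [QuasiSeparatedSpace ↥S] (X : Space S) (hqc : IsQuasiCompactSp X.obj)
    (hqs : IsQuasiSeparatedSp X.obj) :
    ∃ (κ : Type u) (_ : Finite κ) (W : κ → Over S) (c : ∀ l, (yon S).obj (W l) ⟶ X.obj),
      (∀ l, IsAffine (W l).left) ∧
      ∀ (R : Type u) [CommRing R] [HenselianLocalRing R] (str : Spec (CommRingCat.of R) ⟶ S)
        (x : (yon S).obj (Over.mk str) ⟶ X.obj),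
        ∃ (l : κ) (g : Over.mk str ⟶ W l), (yon S).map g ≫ c l = x := by
  classical
  obtain ⟨n, V, c, hV, hlift⟩ := exists_charts_fields X hqc hqs
  let 𝒰 : ∀ l, (V l).left.OpenCover := fun l =>
    haveI := (hV l).1; (V l).left.affineCover.finiteSubcover
  let κ : Type u := Σ l : ULift.{u} (Fin n), (𝒰 l.down).I₀
  haveI : ∀ l, Finite (𝒰 l).I₀ := fun l => haveI := (hV l).1; inferInstanceAs (Finite (V l).left.affineCover.finiteSubcover.I₀)
  let W : κ → Over S := fun w => Over.mk ((𝒰 w.1.down).f w.2 ≫ (V w.1.down).hom)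
  let φ : ∀ w : κ, W w ⟶ V w.1.down := fun w => Over.homMk ((𝒰 w.1.down).f w.2) rfl
  refine ⟨κ, inferInstance, W, fun w => (yon S).map (φ w) ≫ c w.1.down, fun w => ?_, ?_⟩
  · haveI := (hV w.1.down).1
    exact inferInstanceAs (IsAffine ((V w.1.down).left.affineCover.finiteSubcover.X w.2))
  intro R _ _ str x
  let T : Over S := Over.mk (Spec.map (CommRingCat.ofHom (IsLocalRing.residue R)) ≫ str)
  haveI : IsReduced T.left := inferInstanceAs (IsReduced (Spec (CommRingCat.of (IsLocalRing.ResidueField R))))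
  haveI : Subsingleton ↥T.left := inferInstanceAs (Subsingleton (PrimeSpectrum (IsLocalRing.ResidueField R)))
  haveI : Nonempty ↥T.left := inferInstanceAs (Nonempty (PrimeSpectrum (IsLocalRing.ResidueField R)))
  obtain ⟨l, v, hv⟩ := hlift T ((yon S).map (resPt R str) ≫ x)
  obtain ⟨t⟩ := ‹Nonempty ↥T.left›
  obtain ⟨m, q, hq⟩ := (𝒰 l).exists_eq (v.left t)
  have hrange : Set.range v.left ⊆ Set.range ((𝒰 l).f m) := by
    rintro _ ⟨t', rfl⟩
    rw [Subsingleton.elim t' t]
    exact ⟨q, hq⟩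
  haveI : IsOpenImmersion ((𝒰 l).f m) := (𝒰 l).map_prop m
  let g₀ : T ⟶ W ⟨⟨l⟩, m⟩ := Over.homMk (IsOpenImmersion.lift ((𝒰 l).f m) v.left hrange) (by
    change IsOpenImmersion.lift ((𝒰 l).f m) v.left hrange ≫ (𝒰 l).f m ≫ (V l).hom = T.hom
    rw [IsOpenImmersion.lift_fac_assoc, Over.w v])
  have hg₀ : g₀ ≫ φ ⟨⟨l⟩, m⟩ = v := Over.OverMorphism.ext (IsOpenImmersion.lift_fac _ _ _)
  haveI : IsOpenImmersion (φ ⟨⟨l⟩, m⟩).left := (𝒰 l).map_prop m
  have he : RepWith @Etale ((yon S).map (φ ⟨⟨l⟩, m⟩) ≫ c l) :=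
    repWith_etale_map_comp (φ ⟨⟨l⟩, m⟩) (hV l).2
  have hs : RepWith @Smooth ((yon S).map (φ ⟨⟨l⟩, m⟩) ≫ c l) :=
    ⟨he.1, fun _ _ _ _ _ sq => by
      have : Etale _ := he.2 _ _ _ sq
      change Smooth _
      infer_instance⟩
  obtain ⟨g, hg, -⟩ := exists_lift_henselian hs R str x g₀
    (by rw [← Category.assoc, ← Functor.map_comp, hg₀, hv])
  exact ⟨⟨⟨l⟩, m⟩, g, hg⟩

end Groth.Agent.AlgSpPi
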