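import Mathlib.AlgebraicGeometry.ZariskisMainTheorem
import Mathlib.AlgebraicGeometry.QuasiAffine

/-!
# Quasi-compact monomorphisms to the spectrum of a product ring
-/

universe u

open CategoryTheory CategoryTheory.Limits AlgebraicGeometry

namespace Groth.Agent.AlgSpPi

/-- A quasi-compact monomorphism locally of finite type to `Spec (Π i, A i)` through which every
`Spec (A i)` factors is an isomorphism. -/
theorem isIso_of_mono {ι : Type u} (A : ι → CommRingCat.{u}) {E : Scheme.{u}}
    (e : E ⟶ Spec (CommRingCat.of (∀ i, A i))) [Mono e] [LocallyOfFiniteType e] [QuasiCompact e]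
    (a : ∀ i, Spec (A i) ⟶ E)
    (ha : ∀ i, a i ≫ e = Spec.map (CommRingCat.ofHom (Pi.evalRingHom (fun j => (A j : Type u)) i))) :
    IsIso e := by
  classical
  haveI : LocallyQuasiFinite e := inferInstance
  haveI : IsSeparated e := inferInstance
  haveI : IsAffine e.normalization := isAffine_of_isAffineHom e.fromNormalization
  haveI : CompactSpace E := QuasiCompact.compactSpace_of_compactSpace e
  set B : CommRingCat.{u} := Γ(e.normalization, ⊤) with hB
  let j : E ⟶ Spec B := e.toNormalization ≫ e.normalization.isoSpec.hom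
  obtain ⟨φ, hφ⟩ : ∃ φ : CommRingCat.of (∀ i, A i) ⟶ B, j ≫ Spec.map φ = e := by
    refine ⟨Spec.preimage (e.normalization.isoSpec.inv ≫ e.fromNormalization), ?_⟩
    rw [Spec.map_preimage, Category.assoc, Iso.hom_inv_id_assoc, e.toNormalization_fromNormalization]
  let β : ∀ i, B ⟶ A i := fun i => Spec.preimage (a i ≫ j)
  have hβ : ∀ i, φ ≫ β i = CommRingCat.ofHom (Pi.evalRingHom (fun j => (A j : Type u)) i) := fun i => by
    apply Spec.map_injective
    rw [Spec.map_comp, Spec.map_preimage, Category.assoc, hφ, ha]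
  let σ : B ⟶ CommRingCat.of (∀ i, A i) := CommRingCat.ofHom (Pi.ringHom fun i => (β i).hom)
  have hσ : φ ≫ σ = 𝟙 _ := by
    ext x i
    exact congr($(hβ i) x)
  obtain ⟨t, ht⟩ := PrimeSpectrum.isCompact_isOpen_iff.mp
    (⟨isCompact_range j.continuous, j.isOpenEmbedding.isOpen_range⟩ :
      IsCompact (Set.range j : Set (PrimeSpectrum B)) ∧ IsOpen (Set.range j : Set (PrimeSpectrum B)))
  have hunit : ∀ i, Ideal.span ((β i) '' (t : Set B)) = ⊤ := fun i => by
    rw [← PrimeSpectrum.zeroLocus_empty_iff_eq_top, PrimeSpectrum.zeroLocus_span]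
    refine Set.eq_empty_iff_forall_notMem.mpr fun p hp => ?_
    have hm : PrimeSpectrum.comap (β i).hom p ∈ (Set.range j : Set (PrimeSpectrum B)) := by
      refine ⟨a i p, ?_⟩
      change (a i ≫ j) p = _
      rw [← Spec.map_preimage (a i ≫ j)]
      rfl
    rw [← ht] at hm
    exact hm fun x hx => hp ⟨x, hx, rfl⟩
  have hrange : Set.range (Spec.map σ) ⊆ Set.range j := by
    rintro _ ⟨p, rfl⟩
    change PrimeSpectrum.comap σ.hom p ∈ (Set.range j : Set (PrimeSpectrum B))
    rw [← ht]
    intro hp
    have hc : ∀ i, ∃ c : B → A i, ∑ x ∈ t, c x * β i x = 1 := fun i => by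
      have h1 := hunit i
      rw [Ideal.eq_top_iff_one] at h1
      obtain ⟨c, hc⟩ := (Submodule.mem_span_image_finset_iff_exists_fun (A i)).mp h1
      exact ⟨fun x => if h : x ∈ t then c ⟨x, h⟩ else 0, by
        rw [← Finset.sum_coe_sort t]
        simpa using hc⟩
    choose c hc using hc
    apply p.2.ne_top
    rw [Ideal.eq_top_iff_one]
    have he : ∑ x ∈ t, (fun i => c i x) * σ x = (1 : ∀ i, A i) := by
      funext i
      rw [Finset.sum_apply]
      exact hc i
    rw [← he]
    exact Submodule.sum_mem _ fun x hx => Ideal.mul_mem_left _ _ (hp hx)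
  let s := IsOpenImmersion.lift j (Spec.map σ) hrange
  have hs : s ≫ e = 𝟙 _ := by
    rw [← hφ, IsOpenImmersion.lift_fac_assoc, ← Spec.map_comp, hσ, Spec.map_id]
  exact ⟨s, by rw [← cancel_mono e, Category.assoc, hs, Category.id_comp, Category.comp_id], hs⟩

end Groth.Agent.AlgSpPi
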